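import Mathlib
import Cfsg.Prelude.Def_Local
import Cfsg.Agent.PLocal.PConstrainedLocal
import Cfsg.Agent.Lib.Cores

/-!
`p`-constraint of local subgroups: passing between a group containing the local subgroup and the
local subgroup, and from `C_G(T)` to `N_G(T)`.
-/

set_option autoImplicit false

namespace Cfsg.Agent.H320.PCon

open Subgroup Cfsg.Agent.PLocal.PConstrained Cfsg.Agent.PLocal.PConstrainedLocal

variable {G : Type*} [Group G] {p : ℕ}

/-- For `H ≤ M`, the subgroup `H` is isomorphic to `H` seen in `M`; so `p`-constraint agrees. -/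
theorem isPConstrained_subgroupOf [Finite G] [Fact p.Prime] {H M : Subgroup G} (h : H ≤ M) :
    Cfsg.IsPConstrained p ↥(H.subgroupOf M) ↔ Cfsg.IsPConstrained p ↥H :=
  isPConstrained_congr (Subgroup.subgroupOfEquivOfLe h)

theorem isPConstrained_of_eq [Finite G] [Fact p.Prime] {H K : Subgroup G} (h : H = K)
    (hH : Cfsg.IsPConstrained p ↥H) : Cfsg.IsPConstrained p ↥K := by
  subst h; exact hH

theorem normalizer_subgroupOf {T M : Subgroup G} (hTM : T ≤ M) :
    (normalizer (T : Set G)).subgroupOf M = normalizer ((T.subgroupOf M : Subgroup M) : Set M) := by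
  ext x
  rw [Subgroup.mem_subgroupOf, Subgroup.mem_normalizer_iff, Subgroup.mem_normalizer_iff]
  constructor
  · intro h y
    have := h (y : G)
    simpa [Subgroup.mem_subgroupOf] using this
  · intro h y
    constructor
    · intro hy
      have := (h ⟨y, hTM hy⟩).mp (by simpa [Subgroup.mem_subgroupOf] using hy)
      simpa [Subgroup.mem_subgroupOf] using this
    · intro hy
      have hyM : y ∈ M := by
        have h1 : (x : G)⁻¹ * ((x : G) * y * (x : G)⁻¹) * (x : G) ∈ M :=
          M.mul_mem (M.mul_mem (M.inv_mem x.2) (hTM hy)) x.2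
        have h2 : (x : G)⁻¹ * ((x : G) * y * (x : G)⁻¹) * (x : G) = y := by group
        rwa [h2] at h1
      have := (h ⟨y, hyM⟩).mpr (by simpa [Subgroup.mem_subgroupOf] using hy)
      simpa [Subgroup.mem_subgroupOf] using this

theorem centralizer_subgroupOf {T M : Subgroup G} (hTM : T ≤ M) :
    (centralizer (T : Set G)).subgroupOf M = centralizer ((T.subgroupOf M : Subgroup M) : Set M) := by
  ext x
  rw [Subgroup.mem_subgroupOf, Subgroup.mem_centralizer_iff, Subgroup.mem_centralizer_iff]
  constructor
  · intro h y hy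
    exact Subtype.ext (h (y : G) hy)
  · intro h y hy
    exact congrArg Subtype.val (h ⟨y, hTM hy⟩ hy)

/-- If `M` is `p`-constrained and contains `T` and `N_G(T)`, for a `p`-subgroup `T`, then
`N_G(T)` is `p`-constrained. -/
theorem isPConstrained_normalizer_of_le [Finite G] [Fact p.Prime] {T M : Subgroup G}
    (hT : IsPGroup p T) (hM : Cfsg.IsPConstrained p ↥M) (hN : normalizer (T : Set G) ≤ M) :
    Cfsg.IsPConstrained p ↥(normalizer (T : Set G)) := by
  have hTM : T ≤ M := le_trans le_normalizer hN
  rw [← isPConstrained_subgroupOf hN, normalizer_subgroupOf hTM]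
  exact (isPConstrained_normalizer_centralizer hM
    (P := T.subgroupOf M) (hT.comap_subtype)).1

/-- If `M` is `p`-constrained and contains `T` and `C_G(T)`, for a `p`-subgroup `T`, then
`C_G(T)` is `p`-constrained. -/
theorem isPConstrained_centralizer_of_le [Finite G] [Fact p.Prime] {T M : Subgroup G}
    (hT : IsPGroup p T) (hM : Cfsg.IsPConstrained p ↥M) (hTM : T ≤ M)
    (hN : centralizer (T : Set G) ≤ M) :
    Cfsg.IsPConstrained p ↥(centralizer (T : Set G)) := by
  rw [← isPConstrained_subgroupOf hN, centralizer_subgroupOf hTM]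
  exact (isPConstrained_normalizer_centralizer hM
    (P := T.subgroupOf M) (hT.comap_subtype)).2

/-- If `T` is a normal `p`-subgroup of `N` and `C_N(T)` is `p`-constrained, then so is `N`. -/
theorem isPConstrained_of_centralizer [Finite G] [Fact p.Prime] {T : Subgroup G} (hTn : T.Normal)
    (hT : IsPGroup p T) (hC : Cfsg.IsPConstrained p ↥(centralizer (T : Set G))) :
    Cfsg.IsPConstrained p G := by
  have hk : (Nat.card (QuotientGroup.mk' (pPrimeCore p G)).ker).Coprime p := by
    rw [QuotientGroup.ker_mk']
    exact coprime_card_pPrimeCore p G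
  have hfs : Function.Surjective (QuotientGroup.mk' (pPrimeCore p G)) :=
    QuotientGroup.mk'_surjective _
  generalize hfe : QuotientGroup.mk' (pPrimeCore p G) = f at hk hfs
  -- the image of `C`
  have hCn : (centralizer (T : Set G)).Normal := Subgroup.normal_centralizer
  have hmap := map_centralizer_eq f hfs hk hT
  have hTf : (T.map f).Normal := hTn.map f hfs
  have hTfp : IsPGroup p ↥(T.map f) := hT.map f
  have hker : (Nat.card (f.subgroupMap (centralizer (T : Set G))).ker).Coprime p := by
    have h1 : (f.subgroupMap (centralizer (T : Set G))).ker.map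
        (centralizer (T : Set G)).subtype ≤ f.ker := by
      rintro _ ⟨x, hx, rfl⟩
      exact congrArg Subtype.val hx
    have h2 := Nat.card_congr ((f.subgroupMap (centralizer (T : Set G))).ker.equivMapOfInjective _
      (centralizer (T : Set G)).subtype_injective).toEquiv.symm
    rw [← h2]
    exact Nat.Coprime.coprime_dvd_left (Subgroup.card_dvd_of_le h1) hk
  have hCbar : Cfsg.IsPConstrained p ↥((centralizer (T : Set G)).map f) :=
    (isPConstrained_iff_of_surjective (f.subgroupMap (centralizer (T : Set G)))
      (f.subgroupMap_surjective _) hker).mp hC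
  have hCbarn : ((centralizer (T : Set G)).map f).Normal := hCn.map f hfs
  have hO : pPrimeCore p (G ⧸ pPrimeCore p G) = ⊥ := Lib.Cores.pPrimeCore_quotient_pPrimeCore p
  have hO' : pPrimeCore p ↥((centralizer (T : Set G)).map f) = ⊥ := by
    have h1 := Lib.Cores.map_subtype_pPrimeCore (G := G ⧸ pPrimeCore p G) p hCbarn
    rw [hO, inf_bot_eq] at h1
    exact (Subgroup.map_eq_bot_iff_of_injective _ (Subgroup.subtype_injective _)).mp h1
  have hc := (isPConstrained_iff_of_pPrimeCore_eq_bot hO').mp hCbar
  refine isPConstrained_of_surjective_charP f hfs hk ?_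
  intro y hy
  have hTle : T.map f ≤ pCore p (G ⧸ pPrimeCore p G) := Lib.Cores.le_pCore hTf hTfp
  have hyC : y ∈ (centralizer (T : Set G)).map f := by
    rw [hmap]
    exact Subgroup.centralizer_le hTle hy
  have hpc := Lib.Cores.map_subtype_pCore (G := G ⧸ pPrimeCore p G) p hCbarn
  have h1 : (⟨y, hyC⟩ : ↥((centralizer (T : Set G)).map f)) ∈
      pCore p ↥((centralizer (T : Set G)).map f) := by
    refine hc (Subgroup.mem_centralizer_iff.mpr ?_)
    intro z hz
    refine Subtype.ext ?_
    have h2 : (z : G ⧸ pPrimeCore p G) ∈ pCore p (G ⧸ pPrimeCore p G) := by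
      have : (z : G ⧸ pPrimeCore p G) ∈
          (pCore p ↥((centralizer (T : Set G)).map f)).map (Subgroup.subtype _) := ⟨z, hz, rfl⟩
      rw [hpc] at this
      exact this.2
    exact Subgroup.mem_centralizer_iff.mp hy _ h2
  have h3 : y ∈ (pCore p ↥((centralizer (T : Set G)).map f)).map (Subgroup.subtype _) :=
    ⟨_, h1, rfl⟩
  rw [hpc] at h3
  exact h3.2

/-- If `C_G(T)` is `p`-constrained, `T` a `p`-subgroup, then so is `N_G(T)`. -/
theorem isPConstrained_normalizer_of_centralizer [Finite G] [Fact p.Prime] {T : Subgroup G}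
    (hT : IsPGroup p T) (hC : Cfsg.IsPConstrained p ↥(centralizer (T : Set G))) :
    Cfsg.IsPConstrained p ↥(normalizer (T : Set G)) := by
  refine isPConstrained_of_centralizer (T := T.subgroupOf (normalizer (T : Set G)))
    inferInstance hT.comap_subtype ?_
  rw [← centralizer_subgroupOf le_normalizer]
  exact (isPConstrained_subgroupOf (centralizer_le_normalizer _)).mpr hC

/-- If the centralizer of `x` is `p`-constrained, `x` a `p`-element centralizing `T` and lying in
`T`, then `N_G(T)` is `p`-constrained. -/
theorem isPConstrained_normalizer_of_mem [Finite G] [Fact p.Prime] {T : Subgroup G}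
    (hT : IsPGroup p T) {x : G} (hxT : x ∈ T) (hx : ∀ y ∈ T, x * y = y * x)
    (hC : Cfsg.IsPConstrained p ↥(centralizer ({x} : Set G))) :
    Cfsg.IsPConstrained p ↥(normalizer (T : Set G)) := by
  refine isPConstrained_normalizer_of_centralizer hT
    (isPConstrained_centralizer_of_le hT hC ?_ ?_)
  · intro y hy
    rw [Subgroup.mem_centralizer_singleton_iff]
    exact (hx y hy).symm
  · refine Subgroup.centralizer_le ?_
    simpa using hxT

/-- A nontrivial finite `p`-group has a central element of order `p`. -/
theorem exists_central_orderOf [Finite G] [hp : Fact p.Prime] {T : Subgroup G}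
    (hT : IsPGroup p T) (hT1 : T ≠ ⊥) : ∃ x ∈ T, orderOf x = p ∧ ∀ y ∈ T, x * y = y * x := by
  have : Nontrivial T := (Subgroup.nontrivial_iff_ne_bot T).mpr hT1
  have h1 : Nontrivial (Subgroup.center T) := hT.center_nontrivial
  have h2 : IsPGroup p (Subgroup.center T) := hT.to_subgroup _
  obtain ⟨n, hn0, hn⟩ := (IsPGroup.nontrivial_iff_card h2).mp h1
  obtain ⟨x, hx⟩ := exists_prime_orderOf_dvd_card' (G := Subgroup.center T) p
    (by rw [hn]; exact dvd_pow_self p (by omega))
  refine ⟨((x : T) : G), (x : T).2, ?_, ?_⟩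
  · rw [Subgroup.orderOf_coe, Subgroup.orderOf_coe]; exact hx
  · intro y hy
    have := Subgroup.mem_center_iff.mp x.2 ⟨y, hy⟩
    exact (congrArg Subtype.val this).symm

end Cfsg.Agent.H320.PCon
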