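import Mathlib
import Cfsg.Prelude.Def_Involutions
import Cfsg.Prelude.Def_CaseTheorems
import Cfsg.Agent.S0224

/-!
Groups in which all maximal 2-local subgroups are conjugate: a maximal 2-local subgroup containing
the normalizer of a Sylow 2-subgroup is strongly embedded.
-/

set_option autoImplicit false

namespace Cfsg.Agent.H320.OneClass

open Subgroup

variable {G : Type*} [Group G]

/-- A 2-subgroup `P ≤ H` whose order is less than the 2-part of `|H|` is of index two in a
subgroup of `H`. -/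
theorem exists_grow [Finite G] {P H : Subgroup G} (hPH : P ≤ H) {n : ℕ}
    (hP : Nat.card P = 2 ^ n) (hH : 2 ^ (n + 1) ∣ Nat.card H) :
    ∃ K : Subgroup G, K ≤ H ∧ P ≤ K ∧ Nat.card K = 2 ^ (n + 1) ∧ K ≤ normalizer (P : Set G) := by
  have : Fact (Nat.Prime 2) := ⟨Nat.prime_two⟩
  have hcard : Nat.card (P.subgroupOf H) = 2 ^ n := by
    rw [Nat.card_congr (subgroupOfEquivOfLe hPH).toEquiv, hP]
  obtain ⟨K, hK, hPK⟩ := Sylow.exists_subgroup_card_pow_succ (p := 2) hH hcard
  refine ⟨K.map H.subtype, Subgroup.map_subtype_le _, ?_, ?_, ?_⟩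
  · intro x hx
    exact ⟨⟨x, hPH hx⟩, hPK (Subgroup.mem_subgroupOf.mpr hx), rfl⟩
  · rw [← hK]
    exact Nat.card_congr (Subgroup.equivMapOfInjective _ _ (Subgroup.subtype_injective _)).toEquiv.symm
  · have hidx : ((P.subgroupOf H).subgroupOf K).index = 2 := by
      have h1 : Nat.card ((P.subgroupOf H).subgroupOf K) = 2 ^ n := by
        rw [Nat.card_congr (subgroupOfEquivOfLe hPK).toEquiv, hcard]
      have h2 := ((P.subgroupOf H).subgroupOf K).card_mul_index
      rw [h1, hK, pow_succ] at h2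
      exact Nat.eq_of_mul_eq_mul_left (by positivity) h2
    have hn : ((P.subgroupOf H).subgroupOf K).Normal := Subgroup.normal_of_index_eq_two hidx
    rintro _ ⟨k, hk, rfl⟩
    rw [Subgroup.mem_normalizer_iff]
    intro x
    constructor
    · intro hx
      have := hn.conj_mem ⟨⟨x, hPH hx⟩, hPK (Subgroup.mem_subgroupOf.mpr hx)⟩
        (by rw [Subgroup.mem_subgroupOf, Subgroup.mem_subgroupOf]; exact hx) ⟨k, hk⟩
      rw [Subgroup.mem_subgroupOf, Subgroup.mem_subgroupOf] at this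
      exact this
    · intro hx
      have hx' : (k : G) * x * (k : G)⁻¹ ∈ P := hx
      have := hn.conj_mem ⟨⟨(k : G) * x * (k : G)⁻¹, hPH hx'⟩,
        hPK (Subgroup.mem_subgroupOf.mpr hx')⟩
        (by rw [Subgroup.mem_subgroupOf, Subgroup.mem_subgroupOf]; exact hx') ⟨k, hk⟩⁻¹
      rw [Subgroup.mem_subgroupOf, Subgroup.mem_subgroupOf] at this
      have e : (k : G)⁻¹ * ((k : G) * x * (k : G)⁻¹) * ((k : G)⁻¹)⁻¹ = x := by group
      have h3 : (k : G)⁻¹ * ((k : G) * x * (k : G)⁻¹) * ((k : G)⁻¹)⁻¹ ∈ P := this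
      rwa [e] at h3

/-- If `M` contains the normalizer of the Sylow 2-subgroup `S` and `g⁻¹ S g ≤ M` then `g ∈ M`. -/
theorem mem_of_sylow [Finite G] {M : Subgroup G} (S : Sylow 2 G)
    (hNS : normalizer ((S : Subgroup G) : Set G) ≤ M) {g : G}
    (hg : ∀ x ∈ (S : Subgroup G), g⁻¹ * x * g ∈ M) : g ∈ M := by
  have hF : Fact (Nat.Prime 2) := ⟨Nat.prime_two⟩
  have hSM : (S : Subgroup G) ≤ M := le_trans le_normalizer hNS
  have hgS : ((g⁻¹ • S : Sylow 2 G) : Subgroup G) ≤ M := by
    intro y hy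
    rw [Sylow.coe_subgroup_smul, Subgroup.mem_pointwise_smul_iff_inv_smul_mem] at hy
    have h1 := hg _ hy
    have h2 : g⁻¹ * ((MulAut.conj g⁻¹)⁻¹ • y) * g = y := by
      simp [MulAut.smul_def]; group
    rwa [h2] at h1
  obtain ⟨m, hm⟩ := MulAction.exists_smul_eq ↥M (S.subtype hSM) ((g⁻¹ • S).subtype hgS)
  have key : g * (m : G) ∈ normalizer ((S : Subgroup G) : Set G) := by
    have h1 : ∀ x ∈ (S : Subgroup G), (g * m) * x * (g * m)⁻¹ ∈ (S : Subgroup G) := by
      intro x hx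
      have h2 : (⟨x, hSM hx⟩ : M) ∈ ((S.subtype hSM : Sylow 2 M) : Subgroup M) := by
        exact hx
      have h3 : (m * (⟨x, hSM hx⟩ : M) * m⁻¹) ∈ ((m • S.subtype hSM : Sylow 2 M) : Subgroup M) := by
        rw [Sylow.coe_subgroup_smul]
        exact Subgroup.smul_mem_pointwise_smul _ (MulAut.conj m) _ h2
      rw [hm] at h3
      have h4 : ((m : G) * x * (m : G)⁻¹) ∈ ((g⁻¹ • S : Sylow 2 G) : Subgroup G) := h3
      rw [Sylow.coe_subgroup_smul, Subgroup.mem_pointwise_smul_iff_inv_smul_mem] at h4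
      have h5 : (MulAut.conj g⁻¹)⁻¹ • ((m : G) * x * (m : G)⁻¹) = (g * m) * x * (g * m)⁻¹ := by
        simp [MulAut.smul_def]; group
      rwa [h5] at h4
    exact Subgroup.mem_normalizer_fintype h1
  have h2 := M.mul_mem (hNS key) (M.inv_mem m.2)
  rwa [mul_inv_cancel_right] at h2

/-- A Sylow 2-subgroup of `G` fixes exactly one point of `G ⧸ M`. -/
theorem eq_of_sylow_fix [Finite G] {M : Subgroup G} (S : Sylow 2 G)
    (hNS : normalizer ((S : Subgroup G) : Set G) ≤ M) (R : Sylow 2 G) {α β : G ⧸ M}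
    (hα : ∀ r ∈ (R : Subgroup G), r • α = α) (hβ : ∀ r ∈ (R : Subgroup G), r • β = β) : α = β := by
  have hF : Fact (Nat.Prime 2) := ⟨Nat.prime_two⟩
  obtain ⟨x, rfl⟩ := MulAction.exists_smul_eq G S R
  have key : ∀ γ : G ⧸ M, (∀ r ∈ ((x • S : Sylow 2 G) : Subgroup G), r • γ = γ) →
      γ = ((x : G) : G ⧸ M) := by
    intro γ hγ
    induction γ using QuotientGroup.induction_on with
    | H g =>
      -- `S` fixes `x⁻¹ g M`
      have h1 : ∀ s ∈ (S : Subgroup G), (x⁻¹ * g)⁻¹ * s * (x⁻¹ * g) ∈ M := by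
        intro s hs
        have h2 : x * s * x⁻¹ ∈ ((x • S : Sylow 2 G) : Subgroup G) := by
          rw [Sylow.coe_subgroup_smul]
          exact Subgroup.smul_mem_pointwise_smul _ (MulAut.conj x) _ hs
        have h3 := hγ _ h2
        change (((x * s * x⁻¹) * g : G) : G ⧸ M) = (g : G ⧸ M) at h3
        rw [eq_comm, QuotientGroup.eq] at h3
        have e : g⁻¹ * (x * s * x⁻¹ * g) = (x⁻¹ * g)⁻¹ * s * (x⁻¹ * g) := by group
        rwa [e] at h3
      have h4 := mem_of_sylow S hNS h1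
      rw [eq_comm, QuotientGroup.eq]
      exact h4
  rw [key α hα, key β hβ]

/-- **One class of maximal 2-local subgroups.**  If every normalizer of a nontrivial 2-subgroup
fixes a point of `G ⧸ M`, where `M ≥ N_G(S)` is proper and `S ≠ 1`, then `M` is strongly
embedded. -/
theorem isStronglyEmbedded [Finite G] {M : Subgroup G} (hM : M ≠ ⊤) (S : Sylow 2 G)
    (hS : (S : Subgroup G) ≠ ⊥) (hNS : normalizer ((S : Subgroup G) : Set G) ≤ M)
    (hfix : ∀ T : Subgroup G, IsPGroup 2 T → T ≠ ⊥ → ∃ α : G ⧸ M,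
      ∀ x ∈ normalizer (T : Set G), x • α = α) : Cfsg.IsStronglyEmbedded M := by
  have hF : Fact (Nat.Prime 2) := ⟨Nat.prime_two⟩
  have hSM : (S : Subgroup G) ≤ M := le_trans le_normalizer hNS
  have hScard : ∃ k, Nat.card S = 2 ^ k := IsPGroup.iff_card.mp S.isPGroup'
  obtain ⟨k, hk⟩ := hScard
  -- stabilizers contain Sylow 2-subgroups
  have hstab : ∀ α : G ⧸ M, 2 ^ k ∣ Nat.card (MulAction.stabilizer G α) := by
    intro α
    obtain ⟨g, rfl⟩ := MulAction.exists_smul_eq G ((1 : G) : G ⧸ M) α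
    have h1 : ((g • S : Sylow 2 G) : Subgroup G) ≤ MulAction.stabilizer G (g • ((1 : G) : G ⧸ M)) := by
      intro y hy
      rw [Sylow.coe_subgroup_smul, Subgroup.mem_pointwise_smul_iff_inv_smul_mem] at hy
      rw [MulAction.mem_stabilizer_iff]
      have h2 := hSM hy
      have h3 : ((MulAut.conj g)⁻¹ • y) = g⁻¹ * y * g := by
        simp [MulAut.smul_def]
      rw [h3] at h2
      change ((y * (g * 1) : G) : G ⧸ M) = ((g * 1 : G) : G ⧸ M)
      rw [eq_comm, QuotientGroup.eq]
      have e : (g * 1)⁻¹ * (y * (g * 1)) = g⁻¹ * y * g := by group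
      rwa [e]
    have h2 := Subgroup.card_dvd_of_le h1
    have h3 : Nat.card ((g • S : Sylow 2 G) : Subgroup G) = 2 ^ k := by
      have e1 := (g • S : Sylow 2 G).card_eq_multiplicity
      have e2 := S.card_eq_multiplicity
      rw [e1, ← e2, ← hk]
    rwa [h3] at h2
  -- nontrivial 2-subgroups fix at most one point
  have hone : ∀ d : ℕ, ∀ P : Subgroup G, ∀ n : ℕ, Nat.card P = 2 ^ n → n ≠ 0 → n ≤ k → k ≤ n + d →
      ∀ α β : G ⧸ M, (∀ x ∈ P, x • α = α) → (∀ x ∈ P, x • β = β) → α = β := by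
    intro d
    induction d with
    | zero =>
      intro P n hP hn0 hnk hkn α β hα hβ
      have hPk : n = k := by omega
      have hPp : IsPGroup 2 P := IsPGroup.of_card hP
      obtain ⟨R, hR⟩ := hPp.exists_le_sylow
      have hRc : Nat.card R = 2 ^ k := by
        have e1 := R.card_eq_multiplicity
        have e2 := S.card_eq_multiplicity
        rw [e1, ← e2, ← hk]
      have hPR : P = (R : Subgroup G) := by
        apply Subgroup.eq_of_le_of_card_ge hR
        rw [hP, hPk]; exact hRc.le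
      rw [hPR] at hα hβ
      exact eq_of_sylow_fix S hNS R hα hβ
    | succ d ih =>
      intro P n hP hn0 hnk hkn α β hα hβ
      by_cases hnk' : k ≤ n + d
      · exact ih P n hP hn0 hnk hnk' α β hα hβ
      have hPp : IsPGroup 2 P := IsPGroup.of_card hP
      have hP1 : P ≠ ⊥ := by
        rintro rfl
        rw [Subgroup.card_bot] at hP
        have : 2 ^ 1 ≤ 2 ^ n := Nat.pow_le_pow_right (by norm_num) (by omega)
        omega
      obtain ⟨γ, hγ⟩ := hfix P hPp hP1
      have step : ∀ δ : G ⧸ M, (∀ x ∈ P, x • δ = δ) → δ = γ := by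
        intro δ hδ
        have hPδ : P ≤ MulAction.stabilizer G δ := fun x hx =>
          MulAction.mem_stabilizer_iff.mpr (hδ x hx)
        obtain ⟨K, hK, hPK, hKc, hKN⟩ := exists_grow hPδ hP
          ((pow_dvd_pow 2 (by omega : n + 1 ≤ k)).trans (hstab δ))
        refine ih K (n + 1) hKc (by omega) (by omega) (by omega) δ γ
          (fun x hx => MulAction.mem_stabilizer_iff.mp (hK hx)) (fun x hx => hγ x (hKN hx))
      rw [step α hα, step β hβ]
  have hall : ∀ P : Subgroup G, IsPGroup 2 P → P ≠ ⊥ → ∀ α β : G ⧸ M,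
      (∀ x ∈ P, x • α = α) → (∀ x ∈ P, x • β = β) → α = β := by
    intro P hP hP1 α β hα hβ
    obtain ⟨n, hn⟩ := IsPGroup.iff_card.mp hP
    have hn0 : n ≠ 0 := by
      rintro rfl
      exact hP1 (Subgroup.card_eq_one.mp (by simpa using hn))
    have hnk : n ≤ k := by
      obtain ⟨R, hR⟩ := hP.exists_le_sylow
      have hRc : Nat.card R = 2 ^ k := by
        have e1 := R.card_eq_multiplicity
        have e2 := S.card_eq_multiplicity
        rw [e1, ← e2, ← hk]
      have h1 := Subgroup.card_le_of_le hR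
      rw [hn] at h1
      have h2 : (2 : ℕ) ^ n ≤ 2 ^ k := by rw [← hRc]; exact h1
      exact (Nat.pow_le_pow_iff_right (by norm_num)).mp h2
    exact hone k P n hn hn0 hnk (by omega) α β hα hβ
  have heven : Even (Nat.card M) := by
    have h1 : Nat.card S ∣ Nat.card M := Subgroup.card_dvd_of_le hSM
    have h2 : 2 ∣ Nat.card S := by
      rw [hk]
      refine dvd_pow_self 2 ?_
      rintro rfl
      exact hS (Subgroup.card_eq_one.mp (by simpa using hk))
    exact even_iff_two_dvd.mpr (h2.trans h1)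
  rw [S0224.result M hM heven]
  intro t htM ht
  have htp : IsPGroup 2 ↥(zpowers t) :=
    IsPGroup.of_card (n := 1) (by rw [Nat.card_zpowers, ht, pow_one])
  have ht1 : zpowers t ≠ ⊥ := by
    intro h
    have h1 : t = 1 := zpowers_eq_bot.mp h
    rw [h1, orderOf_one] at ht
    omega
  have hfixt : ∀ c : G ⧸ M, t • c = c → ∀ x ∈ zpowers t, x • c = c := by
    intro c hc x hx
    have h1 : zpowers t ≤ MulAction.stabilizer G c := by
      rw [Subgroup.zpowers_le, MulAction.mem_stabilizer_iff]; exact hc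
    exact MulAction.mem_stabilizer_iff.mp (h1 hx)
  have h1c : t • ((1 : G) : G ⧸ M) = ((1 : G) : G ⧸ M) := by
    change ((t * 1 : G) : G ⧸ M) = ((1 : G) : G ⧸ M)
    rw [eq_comm, QuotientGroup.eq]
    simpa using htM
  rw [Nat.card_eq_one_iff_unique]
  refine ⟨⟨fun a b => Subtype.ext ?_⟩, ⟨⟨_, h1c⟩⟩⟩
  exact hall (zpowers t) htp ht1 _ _ (hfixt _ a.2) (hfixt _ b.2)

end Cfsg.Agent.H320.OneClass
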